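import Mathlib

/-!
# The length of a module modulo a regular element bounds the generic lengths
-/

set_option autoImplicit false
set_option linter.style.haveILetI false

universe u

open Module

namespace Groth.Agent.FibLength

variable {R : Type u} [CommRing R] {M : Type u} [AddCommGroup M] [Module R M]

/-- Lengths of localized modules do not depend on the chosen localization. -/
theorem length_eq_localized (S : Submonoid R) {A : Type u} [CommRing A] [Algebra R A] [IsLocalization S A]
    {N : Type u} [AddCommGroup N] [Module R N] [Module A N] [IsScalarTower R A N]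
    (f : M →ₗ[R] N) [IsLocalizedModule S f] :
    Module.length A N = Module.length (Localization S) (LocalizedModule S M) := by
  let e : Localization S ≃ₐ[R] A := IsLocalization.algEquiv S _ _
  letI : Algebra (Localization S) A := e.toRingHom.toAlgebra
  letI : Module (Localization S) N := Module.compHom N e.toRingHom
  haveI : IsScalarTower (Localization S) A N := IsScalarTower.of_algebraMap_smul fun _ _ => rfl
  haveI : IsScalarTower R (Localization S) N := IsScalarTower.of_algebraMap_smul fun r n => by
    show e (algebraMap R (Localization S) r) • n = r • n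
    rw [e.commutes, algebraMap_smul]
  rw [← Module.length_eq_of_surjective (S := Localization S) (R := A) (M := N) (show Function.Surjective (algebraMap (Localization S) A) from e.surjective)]
  exact ((IsLocalizedModule.iso S f).extendScalarsOfIsLocalization S (Localization S)).length_eq.symm

theorem length_localized_add (S : Submonoid R) {M₁ M₂ M₃ : Type u} [AddCommGroup M₁] [Module R M₁]
    [AddCommGroup M₂] [Module R M₂] [AddCommGroup M₃] [Module R M₃] (g : M₁ →ₗ[R] M₂) (h : M₂ →ₗ[R] M₃)
    (hg : Function.Injective g) (hh : Function.Surjective h) (hex : Function.Exact g h) :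
    Module.length (Localization S) (LocalizedModule S M₂) =
      Module.length (Localization S) (LocalizedModule S M₁) + Module.length (Localization S) (LocalizedModule S M₃) :=
  Module.length_eq_add_of_exact (LocalizedModule.map S g) (LocalizedModule.map S h)
    (LocalizedModule.map_injective S g hg) (LocalizedModule.map_surjective S h hh)
    (LocalizedModule.map_exact S g h hex)

theorem length_localized_eq_zero (S : Submonoid R) (h : ∀ m : M, ∃ s ∈ S, s • m = 0) :
    Module.length (Localization S) (LocalizedModule S M) = 0 := by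
  rw [Module.length_eq_zero_iff, LocalizedModule.subsingleton_iff]
  exact fun m => h m

/-- Saturation of a submodule with respect to `t`. -/
def saturation (t : R) (N : Submodule R M) : Submodule R M where
  carrier := {m | ∃ n : ℕ, t ^ n • m ∈ N}
  zero_mem' := ⟨0, by simp⟩
  add_mem' := by
    rintro a b ⟨n, hn⟩ ⟨k, hk⟩
    refine ⟨n + k, ?_⟩
    rw [smul_add]
    refine add_mem ?_ ?_
    · rw [pow_add, mul_comm, mul_smul]; exact N.smul_mem _ hn
    · rw [pow_add, mul_smul]; exact N.smul_mem _ hk
  smul_mem' := by
    rintro r a ⟨n, hn⟩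
    exact ⟨n, by rw [smul_comm]; exact N.smul_mem _ hn⟩

theorem mem_saturation {t : R} {N : Submodule R M} {m : M} : m ∈ saturation t N ↔ ∃ n : ℕ, t ^ n • m ∈ N := Iff.rfl

theorem le_saturation (t : R) (N : Submodule R M) : N ≤ saturation t N := fun m hm => ⟨0, by simpa using hm⟩

theorem isSMulRegular_quotient (t : R) (N : Submodule R M) : IsSMulRegular (M ⧸ saturation t N) t := by
  refine (isSMulRegular_quotient_iff_mem_of_smul_mem _ _).2 fun m hm => ?_
  obtain ⟨n, hn⟩ := hm
  exact ⟨n + 1, by rwa [pow_succ, mul_smul]⟩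

section Step

variable [IsNoetherianRing R] [Module.Finite R M] {t : R} (ht : IsSMulRegular M t)
  {p : Ideal R} [hp : p.IsPrime] (htp : t ∉ p) {m₀ : M} (hm₀ : ∀ r : R, r • m₀ = 0 ↔ r ∈ p)

include ht hm₀ in
theorem length_saturation_eq_zero {p' : Ideal R} [p'.IsPrime] (hle : ¬ p ≤ p') :
    Module.length (Localization p'.primeCompl) (LocalizedModule p'.primeCompl (saturation t (R ∙ m₀))) = 0 := by
  obtain ⟨s, hs, hs'⟩ := Set.not_subset.1 hle
  refine length_localized_eq_zero _ fun ⟨m, n, hn⟩ => ⟨s, hs', Subtype.ext (ht.pow n (Eq.trans ?_ (smul_zero (t ^ n)).symm))⟩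
  obtain ⟨r, hr⟩ := Submodule.mem_span_singleton.1 hn
  show t ^ n • (s • m) = 0
  rw [smul_comm, ← hr, smul_comm, (hm₀ s).2 hs, smul_zero]

include ht htp hm₀ in
theorem length_saturation_le_one :
    Module.length (Localization p.primeCompl) (LocalizedModule p.primeCompl (saturation t (R ∙ m₀))) ≤ 1 := by
  classical
  let N := saturation t (R ∙ m₀)
  let v : LocalizedModule p.primeCompl N :=
    LocalizedModule.mkLinearMap p.primeCompl N ⟨m₀, le_saturation _ _ (Submodule.mem_span_singleton_self _)⟩
  let m := IsLocalRing.maximalIdeal (Localization.AtPrime p)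
  let φ : Localization.AtPrime p →ₗ[Localization.AtPrime p] LocalizedModule p.primeCompl N :=
    LinearMap.toSpanSingleton _ _ v
  have hker : m ≤ LinearMap.ker φ := by
    intro a ha
    obtain ⟨r, s, rfl⟩ := IsLocalization.exists_mk'_eq p.primeCompl a
    have hr : r ∈ p := (IsLocalization.AtPrime.mk'_mem_maximal_iff (Localization.AtPrime p) p r s).1 ha
    rw [LinearMap.mem_ker]
    show IsLocalization.mk' (Localization.AtPrime p) r s • v = 0
    rw [IsLocalization.mk'_eq_mul_mk'_one, mul_comm, mul_smul, algebraMap_smul, ← map_smul,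
      show r • (⟨m₀, le_saturation _ _ (Submodule.mem_span_singleton_self _)⟩ : N) = 0 from
        Subtype.ext ((hm₀ r).2 hr), map_zero, smul_zero]
  have hsur : Function.Surjective (Submodule.liftQ m φ hker) := by
    intro z
    induction z using LocalizedModule.induction_on with
    | h a s =>
      obtain ⟨a, n, hn⟩ := a
      obtain ⟨r, hr⟩ := Submodule.mem_span_singleton.1 hn
      refine ⟨Submodule.Quotient.mk (IsLocalization.mk' (Localization.AtPrime p) r
        (s * ⟨t ^ n, fun h => htp (hp.mem_of_pow_mem n h)⟩)), ?_⟩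
      show IsLocalization.mk' (M := p.primeCompl) (Localization.AtPrime p) r _ •
        LocalizedModule.mk (⟨m₀, le_saturation _ _ (Submodule.mem_span_singleton_self _)⟩ : N) (1 : p.primeCompl) = _
      rw [IsLocalizedModule.mk_eq_mk', IsLocalizedModule.mk_eq_mk', IsLocalizedModule.mk'_smul_mk' (Localization.AtPrime p),
        IsLocalizedModule.mk'_eq_mk'_iff]
      refine ⟨1, Subtype.ext ?_⟩
      simp only [one_smul, mul_one, Submonoid.smul_def, Submonoid.coe_mul, SetLike.val_smul]
      rw [hr, smul_smul]
  refine le_trans (Module.length_le_of_surjective _ hsur) (le_of_eq ?_)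
  exact Module.length_eq_one_iff.2 (isSimpleModule_iff_isCoatom.2 (IsLocalRing.maximalIdeal.isMaximal _).out)

include ht hm₀ in
theorem one_le_length_quotient {q : Ideal R} [q.IsPrime] (hpq : p ≤ q) (htq : t ∈ q) :
    1 ≤ Module.length (Localization q.primeCompl) (LocalizedModule q.primeCompl
      (saturation t (R ∙ m₀) ⧸ (Ideal.span {t} • ⊤ : Submodule R (saturation t (R ∙ m₀))))) := by
  rw [Order.one_le_iff_ne_zero, Ne, Module.length_eq_zero_iff, not_subsingleton_iff_nontrivial]
  have hq : (⟨q, inferInstance⟩ : PrimeSpectrum R) ∈ Module.support R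
      (saturation t (R ∙ m₀) ⧸ (Ideal.span {t} • ⊤ : Submodule R (saturation t (R ∙ m₀)))) := by
    rw [Module.support_quotient]
    refine ⟨Module.mem_support_iff_exists_annihilator.2
      ⟨⟨m₀, le_saturation _ _ (Submodule.mem_span_singleton_self _)⟩, fun r hr => hpq ?_⟩,
      (PrimeSpectrum.mem_zeroLocus _ _).2 ((Ideal.span_singleton_le_iff_mem _).2 htq)⟩
    rw [Submodule.mem_annihilator_span_singleton] at hr
    exact (hm₀ r).1 (congrArg Subtype.val hr)
  exact hq

end Step

/-- The sum of the lengths at generizations not containing `t` is at most the length modulo `t`. -/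
theorem sum_length_le [IsNoetherianRing R] [Module.Finite R M] {t : R} (ht : IsSMulRegular M t)
    (q : Ideal R) [q.IsPrime] (htq : t ∈ q) (S : Finset (PrimeSpectrum R))
    (hS : ∀ p ∈ S, p.asIdeal ≤ q ∧ t ∉ p.asIdeal)
    (hanti : ∀ p ∈ S, ∀ p' ∈ S, p.asIdeal ≤ p'.asIdeal → p = p')
    (hfin : ∀ p ∈ S, Module.length (Localization p.asIdeal.primeCompl) (LocalizedModule p.asIdeal.primeCompl M) ≠ ⊤) :
    ∑ p ∈ S, Module.length (Localization p.asIdeal.primeCompl) (LocalizedModule p.asIdeal.primeCompl M) ≤
      Module.length (Localization q.primeCompl)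
        (LocalizedModule q.primeCompl (M ⧸ (Ideal.span {t} • ⊤ : Submodule R M))) := by
  suffices H : ∀ (k : ℕ) (M : Type u) [AddCommGroup M] [Module R M] [Module.Finite R M], IsSMulRegular M t →
      ∑ p ∈ S, Module.length (Localization p.asIdeal.primeCompl) (LocalizedModule p.asIdeal.primeCompl M) = k →
      (k : ℕ∞) ≤ Module.length (Localization q.primeCompl)
        (LocalizedModule q.primeCompl (M ⧸ (Ideal.span {t} • ⊤ : Submodule R M))) by
    obtain ⟨k, hk⟩ := WithTop.ne_top_iff_exists.1 (WithTop.sum_ne_top.2 hfin)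
    exact hk ▸ H k M ht hk.symm
  intro k
  induction k using Nat.strong_induction_on with
  | _ k ih =>
    intro M _ _ _ ht hk
    by_cases hk0 : k = 0
    · simp [hk0]
    obtain ⟨p, hpS, hp0⟩ : ∃ p ∈ S, Module.length (Localization p.asIdeal.primeCompl)
        (LocalizedModule p.asIdeal.primeCompl M) ≠ 0 := by
      by_contra hc
      push Not at hc
      exact hk0 (by exact_mod_cast hk.symm.trans (Finset.sum_eq_zero hc))
    have hpfin : Module.length (Localization p.asIdeal.primeCompl) (LocalizedModule p.asIdeal.primeCompl M) ≠ ⊤ := fun h => by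
      have := Finset.single_le_sum (f := fun p : PrimeSpectrum R => Module.length (Localization p.asIdeal.primeCompl)
        (LocalizedModule p.asIdeal.primeCompl M)) (fun _ _ => bot_le) hpS
      rw [hk] at this
      exact ENat.coe_ne_top k (top_le_iff.1 (h ▸ this))
    obtain ⟨m₀, hm₀⟩ : ∃ m₀ : M, ∀ r : R, r • m₀ = 0 ↔ r ∈ p.asIdeal := by
      let Rp := Localization.AtPrime p.asIdeal
      let Mp := LocalizedModule p.asIdeal.primeCompl M
      haveI : IsNoetherianRing Rp := IsLocalization.isNoetherianRing p.asIdeal.primeCompl Rp inferInstance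
      haveI : Nontrivial Mp := not_subsingleton_iff_nontrivial.1 fun h => hp0 (Module.length_eq_zero_iff.2 h)
      have hfl : IsFiniteLength Rp Mp := Module.length_ne_top_iff.1 hpfin
      obtain ⟨P, hP⟩ := associatedPrimes.nonempty Rp Mp
      have hPmax : P = IsLocalRing.maximalIdeal Rp := by
        obtain ⟨_, hArt⟩ := isFiniteLength_iff_isNoetherian_isArtinian.1 hfl
        obtain ⟨hPp, x, hx⟩ := (Submodule.isAssociatedPrime_iff).1 hP
        haveI := hPp
        let φ := LinearMap.toSpanSingleton Rp Mp x
        have hkerφ : LinearMap.ker φ = P := by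
          rw [hx]
          exact SetLike.ext fun r => by simp [φ, Submodule.mem_colon_singleton]
        haveI : IsArtinian Rp (Rp ⧸ P) := hkerφ ▸ isArtinian_of_injective
          (Submodule.liftQ (LinearMap.ker φ) φ le_rfl) (LinearMap.ker_eq_bot.1 (Submodule.ker_liftQ_eq_bot _ _ _ le_rfl))
        haveI : IsArtinianRing (Rp ⧸ P) := isArtinian_of_tower Rp inferInstance
        have : P.IsMaximal := Ideal.Quotient.maximal_of_isField _ ((IsArtinianRing.isField_of_isDomain (R := Rp ⧸ P)))
        exact IsLocalRing.eq_maximalIdeal this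
      have hmem : p.asIdeal ∈ associatedPrimes R M := by
        have h1 := Module.associatedPrimes.preimage_comap_associatedPrimes_eq_associatedPrimes_of_isLocalizedModule
          p.asIdeal.primeCompl Rp (LocalizedModule.mkLinearMap p.asIdeal.primeCompl M)
        have h2 : P ∈ Ideal.comap (algebraMap R Rp) ⁻¹' associatedPrimes R M := h1 ▸ hP
        rw [Set.mem_preimage, hPmax] at h2
        have e : Ideal.comap (algebraMap R Rp) (IsLocalRing.maximalIdeal Rp) = p.asIdeal :=
          IsLocalization.AtPrime.under_maximalIdeal Rp p.asIdeal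
        rwa [e] at h2
      obtain ⟨-, m₀, hm₀⟩ := Submodule.isAssociatedPrime_iff.1 hmem
      exact ⟨m₀, fun r => by rw [hm₀, Submodule.mem_colon_singleton, Submodule.mem_bot]⟩
    let N := saturation t (R ∙ m₀)
    have hadd : ∀ (T : Submonoid R), Module.length (Localization T) (LocalizedModule T M) =
        Module.length (Localization T) (LocalizedModule T N) + Module.length (Localization T) (LocalizedModule T (M ⧸ N)) :=
      fun T => length_localized_add T N.subtype N.mkQ N.subtype_injective N.mkQ_surjective (LinearMap.exact_subtype_mkQ N)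
    have hN0 : ∀ p' ∈ S, p' ≠ p → Module.length (Localization p'.asIdeal.primeCompl)
        (LocalizedModule p'.asIdeal.primeCompl N) = 0 := fun p' hp' hne =>
      length_saturation_eq_zero ht hm₀ fun hle => hne (hanti p hpS p' hp' hle).symm
    have hN1 : Module.length (Localization p.asIdeal.primeCompl) (LocalizedModule p.asIdeal.primeCompl N) = 1 := by
      refine le_antisymm (length_saturation_le_one ht (hS p hpS).2 hm₀) ?_
      rw [Order.one_le_iff_ne_zero, Ne, Module.length_eq_zero_iff, LocalizedModule.subsingleton_iff]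
      intro h
      obtain ⟨s, hs, hs0⟩ := h ⟨m₀, le_saturation _ _ (Submodule.mem_span_singleton_self _)⟩
      exact hs ((hm₀ s).1 (congrArg Subtype.val hs0))
    have hsum : ∑ p' ∈ S, Module.length (Localization p'.asIdeal.primeCompl) (LocalizedModule p'.asIdeal.primeCompl M) =
        1 + ∑ p' ∈ S, Module.length (Localization p'.asIdeal.primeCompl)
          (LocalizedModule p'.asIdeal.primeCompl (M ⧸ N)) := by
      rw [Finset.sum_congr rfl fun p' _ => hadd p'.asIdeal.primeCompl, Finset.sum_add_distrib,
        Finset.sum_eq_single p hN0 fun h => absurd hpS h, hN1]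
    obtain ⟨k', hk'⟩ : ∃ k' : ℕ, ∑ p' ∈ S, Module.length (Localization p'.asIdeal.primeCompl)
          (LocalizedModule p'.asIdeal.primeCompl (M ⧸ N)) = (k' : ℕ∞) := by
      refine ENat.ne_top_iff_exists.1 ?_ |>.imp fun _ h => h.symm
      intro h
      rw [h, hk, add_top] at hsum
      exact ENat.coe_ne_top k hsum
    have hkk : k = 1 + k' := by
      have : (k : ℕ∞) = ((1 + k' : ℕ) : ℕ∞) := by push_cast; rw [← hk, hsum, hk']
      exact_mod_cast this
    have hreg : IsSMulRegular (M ⧸ N) t := isSMulRegular_quotient t _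
    have hle := ih k' (by omega) (M ⧸ N) hreg hk'
    let I : Ideal R := Ideal.span {t}
    let g : (N ⧸ (I • ⊤ : Submodule R N)) →ₗ[R] M ⧸ (I • ⊤ : Submodule R M) :=
      Submodule.mapQ _ _ N.subtype (by
        rw [← Submodule.map_le_iff_le_comap, Submodule.map_smul'']
        exact Submodule.smul_mono le_rfl le_top)
    let h : (M ⧸ (I • ⊤ : Submodule R M)) →ₗ[R] (M ⧸ N) ⧸ (I • ⊤ : Submodule R (M ⧸ N)) :=
      Submodule.mapQ _ _ N.mkQ (by
        rw [← Submodule.map_le_iff_le_comap, Submodule.map_smul'']
        exact Submodule.smul_mono le_rfl le_top)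
    have hmemI : ∀ {V : Type u} [AddCommGroup V] [Module R V] (v : V), v ∈ (I • ⊤ : Submodule R V) ↔ ∃ w, t • w = v := by
      intro V _ _ v
      rw [Submodule.ideal_span_singleton_smul, Submodule.mem_smul_pointwise_iff_exists]
      simp
    have hg : Function.Injective g := by
      refine (injective_iff_map_eq_zero g).2 fun a ha => ?_
      obtain ⟨a, rfl⟩ := Submodule.Quotient.mk_surjective _ a
      rw [Submodule.mapQ_apply, Submodule.Quotient.mk_eq_zero, hmemI] at ha
      obtain ⟨w, hw⟩ := ha
      refine (Submodule.Quotient.mk_eq_zero _).2 ((hmemI _).2 ?_)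
      have hwN : w ∈ N := by
        obtain ⟨n, hn⟩ := a.2
        refine ⟨n + 1, ?_⟩
        rw [pow_succ, mul_smul, hw]
        exact hn
      exact ⟨⟨w, hwN⟩, Subtype.ext hw⟩
    have hh : Function.Surjective h := fun z => by
      obtain ⟨z, rfl⟩ := Submodule.Quotient.mk_surjective _ z
      obtain ⟨z, rfl⟩ := N.mkQ_surjective z
      exact ⟨Submodule.Quotient.mk z, rfl⟩
    have hex : Function.Exact g h := fun z => ⟨fun hz => by
      obtain ⟨z, rfl⟩ := Submodule.Quotient.mk_surjective _ z
      rw [Submodule.mapQ_apply, Submodule.Quotient.mk_eq_zero, hmemI] at hz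
      obtain ⟨w, hw⟩ := hz
      obtain ⟨w, rfl⟩ := N.mkQ_surjective w
      rw [← map_smul, Submodule.mkQ_apply, Submodule.mkQ_apply, Submodule.Quotient.eq] at hw
      refine ⟨Submodule.Quotient.mk ⟨z - t • w, by simpa using N.neg_mem hw⟩, ?_⟩
      rw [Submodule.mapQ_apply, Submodule.Quotient.eq, hmemI]
      exact ⟨-w, by simp⟩, fun hz => by
      obtain ⟨a, rfl⟩ := hz
      obtain ⟨a, rfl⟩ := Submodule.Quotient.mk_surjective _ a
      rw [Submodule.mapQ_apply, Submodule.mapQ_apply, Submodule.Quotient.mk_eq_zero]
      convert Submodule.zero_mem _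
      exact (Submodule.Quotient.mk_eq_zero N).2 a.2⟩
    rw [length_localized_add q.primeCompl g h hg hh hex, hkk]
    push_cast
    exact add_le_add (one_le_length_quotient ht hm₀ (hS p hpS).1 htq) hle

theorem mem_span_smul_top_iff {t : R} {V : Type u} [AddCommGroup V] [Module R V] (v : V) :
    v ∈ (Ideal.span {t} • ⊤ : Submodule R V) ↔ ∃ w, t • w = v := by
  rw [Submodule.ideal_span_singleton_smul, Submodule.mem_smul_pointwise_iff_exists]
  simp

/-- Minimal primes over an associated prime and a regular element are associated to the quotient. -/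
theorem mem_associatedPrimes_quotient [IsNoetherianRing R] [Module.Finite R M] {t : R} (ht : IsSMulRegular M t)
    {p q : Ideal R} (hp : p ∈ associatedPrimes R M) (hq : q ∈ (p ⊔ Ideal.span {t}).minimalPrimes) :
    q ∈ associatedPrimes R (M ⧸ (Ideal.span {t} • ⊤ : Submodule R M)) := by
  haveI : q.IsPrime := hq.1.1
  obtain ⟨hpp, m₀, hm₀'⟩ := Submodule.isAssociatedPrime_iff.1 hp
  haveI := hpp
  have hm₀ : ∀ r : R, r • m₀ = 0 ↔ r ∈ p := fun r => by
    rw [hm₀', Submodule.mem_colon_singleton, Submodule.mem_bot]
  have hpq : p ≤ q := le_sup_left.trans hq.1.2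
  have htq : t ∈ q := hq.1.2 (Ideal.mem_sup_right (Ideal.mem_span_singleton_self t))
  let N := saturation t (R ∙ m₀)
  let W := N ⧸ (Ideal.span {t} • ⊤ : Submodule R N)
  let g : W →ₗ[R] M ⧸ (Ideal.span {t} • ⊤ : Submodule R M) :=
    Submodule.mapQ _ _ N.subtype (by
      rw [← Submodule.map_le_iff_le_comap, Submodule.map_smul'']
      exact Submodule.smul_mono le_rfl le_top)
  have hg : Function.Injective g := by
    refine (injective_iff_map_eq_zero g).2 fun a ha => ?_
    obtain ⟨a, rfl⟩ := Submodule.Quotient.mk_surjective _ a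
    rw [Submodule.mapQ_apply, Submodule.Quotient.mk_eq_zero, mem_span_smul_top_iff] at ha
    obtain ⟨w, hw⟩ := ha
    refine (Submodule.Quotient.mk_eq_zero _).2 ((mem_span_smul_top_iff _).2 ?_)
    have hwN : w ∈ N := by
      obtain ⟨n, hn⟩ := a.2
      refine ⟨n + 1, ?_⟩
      rw [pow_succ, mul_smul, hw]
      exact hn
    exact ⟨⟨w, hwN⟩, Subtype.ext hw⟩
  refine associatedPrimes.subset_of_injective hg
    (Module.associatedPrimes.minimalPrimes_annihilator_subset_associatedPrimes R W ?_)
  have hne := one_le_length_quotient ht hm₀ (q := q) hpq htq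
  rw [Order.one_le_iff_ne_zero, Ne, Module.length_eq_zero_iff, not_subsingleton_iff_nontrivial] at hne
  have hqs : (⟨q, inferInstance⟩ : PrimeSpectrum R) ∈ Module.support R W := hne
  refine ⟨⟨inferInstance, Module.mem_support_iff_of_finite.1 hqs⟩, fun r ⟨hr, hrann⟩ hrq => hq.2 ⟨hr, ?_⟩ hrq⟩
  have hrs : (⟨r, hr⟩ : PrimeSpectrum R) ∈ Module.support R W := Module.mem_support_iff_of_finite.2 hrann
  rw [Module.support_quotient] at hrs
  refine sup_le (fun a ha => Module.mem_support_iff_of_finite.1 hrs.1 ?_)
    ((Ideal.span_singleton_le_iff_mem _).2 ((PrimeSpectrum.mem_zeroLocus _ _).1 hrs.2 (Ideal.mem_span_singleton_self t)))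
  refine Module.mem_annihilator.2 fun ⟨m, n, hn⟩ => Subtype.ext (ht.pow n (Eq.trans ?_ (smul_zero (t ^ n)).symm))
  obtain ⟨c, hc⟩ := Submodule.mem_span_singleton.1 hn
  show t ^ n • (a • m) = 0
  rw [smul_comm, ← hc, smul_comm, (hm₀ a).2 ha, smul_zero]

end Groth.Agent.FibLength
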