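import Groth.Agent.FibLength.Algebra
import Groth.Agent.AssLib2.Scheme
import Groth.Agent.AssLib.Basic
import Groth.Agent.QCoh.Stalk
import Groth.Agent.QCoh.Support

/-!
# Stalk lengths in terms of sections on an affine open
-/

set_option autoImplicit false
set_option linter.style.haveILetI false
set_option backward.isDefEq.respectTransparency false
set_option backward.isDefEq.respectTransparency.types false

universe u

open AlgebraicGeometry CategoryTheory Limits IsLocalRing

namespace Groth.Agent.FibLength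

variable {X Y : Scheme.{u}}

theorem length_stalk_eq {F : X.Modules} (hF : Coh.IsQCoh F) {U : X.Opens} (hU : IsAffineOpen U) {x : X} (hx : x ∈ U) :
    Module.length (X.presheaf.stalk x) (F.presheaf.stalk x) =
      Module.length (Localization (hU.primeIdealOf ⟨x, hx⟩).asIdeal.primeCompl)
        (LocalizedModule (hU.primeIdealOf ⟨x, hx⟩).asIdeal.primeCompl Γ(F, U)) := by
  letI := QCoh.stalkAlg (X := X) hx
  letI := QCoh.stalkModule F hx
  haveI := QCoh.isScalarTower_stalk F hx
  haveI := QCoh.isLocalization_stalk' hU hx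
  haveI := QCoh.isLocalizedModule_germLin hF hU hx
  exact length_eq_localized _ (QCoh.germLin F hx)

/-- Quotients of stalks by an ideal coming from the sections. -/
theorem exists_quotient_localized {F : X.Modules} (hF : Coh.IsQCoh F) {U : X.Opens} (hU : IsAffineOpen U) {x : X}
    (hx : x ∈ U) (I : Ideal Γ(X, U)) :
    letI := QCoh.stalkAlg (X := X) hx
    letI := QCoh.stalkModule F hx
    haveI := QCoh.isScalarTower_stalk F hx
    ∃ l : (Γ(F, U) ⧸ (I • ⊤ : Submodule Γ(X, U) Γ(F, U))) →ₗ[Γ(X, U)]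
        (F.presheaf.stalk x ⧸ (I.map (algebraMap Γ(X, U) (X.presheaf.stalk x)) • ⊤ :
          Submodule (X.presheaf.stalk x) (F.presheaf.stalk x))),
      IsLocalizedModule (hU.primeIdealOf ⟨x, hx⟩).asIdeal.primeCompl l := by
  letI := QCoh.stalkAlg (X := X) hx
  letI := QCoh.stalkModule F hx
  haveI := QCoh.isScalarTower_stalk F hx
  haveI := QCoh.isLocalization_stalk' hU hx
  haveI := QCoh.isLocalizedModule_germLin hF hU hx
  let S := (hU.primeIdealOf ⟨x, hx⟩).asIdeal.primeCompl
  have he : (I • ⊤ : Submodule Γ(X, U) Γ(F, U)).localized' (X.presheaf.stalk x) S (QCoh.germLin F hx) =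
      I.map (algebraMap Γ(X, U) (X.presheaf.stalk x)) • (⊤ : Submodule (X.presheaf.stalk x) (F.presheaf.stalk x)) := by
    rw [Submodule.localized'_smul, Submodule.localized'_top, Submodule.localized'_eq_span]
    rfl
  let l₀ := (I • ⊤ : Submodule Γ(X, U) Γ(F, U)).toLocalizedQuotient' (X.presheaf.stalk x) S (QCoh.germLin F hx)
  let e := (Submodule.quotEquivOfEq _ _ he).restrictScalars Γ(X, U)
  exact ⟨e.toLinearMap.comp l₀, IsLocalizedModule.of_linearEquiv S l₀ e⟩

theorem length_quotient_eq {F : X.Modules} (hF : Coh.IsQCoh F) {U : X.Opens} (hU : IsAffineOpen U) {x : X}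
    (hx : x ∈ U) (I : Ideal Γ(X, U)) (J : Ideal (X.presheaf.stalk x))
    (hJ : J = I.map (X.presheaf.germ U x hx).hom) :
    Module.length (X.presheaf.stalk x) (F.presheaf.stalk x ⧸ (J • ⊤ : Submodule (X.presheaf.stalk x) (F.presheaf.stalk x))) =
      Module.length (Localization (hU.primeIdealOf ⟨x, hx⟩).asIdeal.primeCompl)
        (LocalizedModule (hU.primeIdealOf ⟨x, hx⟩).asIdeal.primeCompl (Γ(F, U) ⧸ (I • ⊤ : Submodule Γ(X, U) Γ(F, U)))) := by
  subst hJ
  obtain ⟨l, hl⟩ := exists_quotient_localized hF hU hx I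
  letI := QCoh.stalkAlg (X := X) hx
  letI := QCoh.stalkModule F hx
  haveI := QCoh.isScalarTower_stalk F hx
  haveI := QCoh.isLocalization_stalk' hU hx
  haveI := hl
  exact length_eq_localized _ l

theorem soc_quotient_of_mem_associatedPrimes [IsLocallyNoetherian X] {F : X.Modules} (hF : Coh.IsQCoh F)
    {U : X.Opens} (hU : IsAffineOpen U) {x : X} (hx : x ∈ U) (I : Ideal Γ(X, U)) (J : Ideal (X.presheaf.stalk x))
    (hJ : J = I.map (X.presheaf.germ U x hx).hom)
    (h : (hU.primeIdealOf ⟨x, hx⟩).asIdeal ∈ associatedPrimes Γ(X, U) (Γ(F, U) ⧸ (I • ⊤ : Submodule Γ(X, U) Γ(F, U)))) :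
    AssLib2.Soc (X.presheaf.stalk x)
      (F.presheaf.stalk x ⧸ (J • ⊤ : Submodule (X.presheaf.stalk x) (F.presheaf.stalk x))) := by
  subst hJ
  obtain ⟨l, hl⟩ := exists_quotient_localized hF hU hx I
  letI := QCoh.stalkAlg (X := X) hx
  letI := QCoh.stalkModule F hx
  haveI := QCoh.isScalarTower_stalk F hx
  haveI := QCoh.isLocalization_stalk' hU hx
  haveI := hl
  haveI : IsNoetherianRing Γ(X, U) := IsLocallyNoetherian.component_noetherian ⟨U, hU⟩
  haveI : IsNoetherianRing (X.presheaf.stalk x) :=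
    IsLocalization.isNoetherianRing (hU.primeIdealOf ⟨x, hx⟩).asIdeal.primeCompl _ inferInstance
  refine AssLib2.soc_iff_ass.2 ?_
  exact (Set.ext_iff.1 (Module.associatedPrimes.preimage_comap_associatedPrimes_eq_associatedPrimes_of_isLocalizedModule
    (hU.primeIdealOf ⟨x, hx⟩).asIdeal.primeCompl (X.presheaf.stalk x) l) _).1
      ((congrArg (· ∈ _) (AssLib.comap_maximalIdeal_stalk hU hx)).mpr h)

section Fibre

variable (p : X ⟶ Y) (F : X.Modules) (s : Y) (w : ↥(p.fiber s))

theorem length_fibre_eq :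
    Module.length ((p.fiber s).presheaf.stalk w) (((Scheme.Modules.pullback (p.fiberι s)).obj F).presheaf.stalk w) =
      Module.length (X.presheaf.stalk (p.fiberι s w))
        (F.presheaf.stalk (p.fiberι s w) ⧸ (Codepth5.fibIdeal p (p.fiberι s w) • ⊤ :
          Submodule (X.presheaf.stalk (p.fiberι s w)) (F.presheaf.stalk (p.fiberι s w)))) := by
  obtain ⟨σ, hσ, e, he⟩ := AssLib2.exists_fibre_equiv p _ F s w rfl
  let V := ((Scheme.Modules.pullback (p.fiberι s)).obj F).presheaf.stalk w
  letI : Algebra (X.presheaf.stalk (p.fiberι s w)) ((p.fiber s).presheaf.stalk w) := σ.toAlgebra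
  letI : Module (X.presheaf.stalk (p.fiberι s w)) V := Module.compHom V σ
  haveI : IsScalarTower (X.presheaf.stalk (p.fiberι s w)) ((p.fiber s).presheaf.stalk w) V :=
    IsScalarTower.of_algebraMap_smul fun _ _ => rfl
  rw [← Module.length_eq_of_surjective (S := X.presheaf.stalk (p.fiberι s w))
    (R := (p.fiber s).presheaf.stalk w) (M := V) hσ]
  exact ({ e with map_smul' := he } : _ ≃ₗ[X.presheaf.stalk (p.fiberι s w)] V).length_eq.symm

theorem nontrivial_fibre_iff (hF : Coh.IsCoh F) :
    Nontrivial (((Scheme.Modules.pullback (p.fiberι s)).obj F).presheaf.stalk w) ↔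
      p.fiberι s w ∈ CohB1.support F := by
  obtain ⟨σ, hσ, e, he⟩ := AssLib2.exists_fibre_equiv p _ F s w rfl
  haveI : Module.Finite (X.presheaf.stalk (p.fiberι s w)) (F.presheaf.stalk (p.fiberι s w)) :=
    QCoh.finite_stalk_of_isFT hF.1 hF.2 _
  rw [← e.toEquiv.nontrivial_congr, ← not_subsingleton_iff_nontrivial]
  refine not_congr ⟨fun h => ?_, fun h => by haveI := h; infer_instance⟩
  haveI := h
  have htop : (Codepth5.fibIdeal p (p.fiberι s w) • ⊤ :
      Submodule (X.presheaf.stalk (p.fiberι s w)) (F.presheaf.stalk (p.fiberι s w))) = ⊤ :=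
    Submodule.Quotient.subsingleton_iff.1 h
  refine Submodule.subsingleton_iff (X.presheaf.stalk (p.fiberι s w)) |>.1 (subsingleton_iff_bot_eq_top.1 ?_)
  exact (Submodule.eq_bot_of_le_smul_of_le_jacobson_bot (Codepth5.fibIdeal p (p.fiberι s w)) ⊤
    (Module.finite_def.1 inferInstance) (le_of_eq htop.symm) ((Ideal.map_le_iff_le_comap.2 (by
      intro a ha
      exact map_nonunit (p.stalkMap (p.fiberι s w)).hom a ha)).trans (maximalIdeal_le_jacobson _))).symm

end Fibre

theorem mem_support_of_specializes {F : X.Modules} (hF : Coh.IsQCoh F) {w x : X} (h : w ⤳ x)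
    (hw : w ∈ CohB1.support F) : x ∈ CohB1.support F := by
  obtain ⟨U, hU, hxU, -⟩ := exists_isAffineOpen_mem_and_subset (x := x) (U := ⊤) trivial
  obtain ⟨m, hm⟩ := (QCoh.mem_support_iff hF hU (h.mem_open U.2 hxU)).1 hw
  exact (QCoh.mem_support_iff hF hU hxU).2 ⟨m, fun r hr => hm r (h.mem_open (X.basicOpen r).2 hr)⟩

/-- The prime of a point of an affine scheme in the ring of global sections. -/
theorem mem_primeIdealOf_top {A : CommRingCat.{u}} (y : Spec A) (a : Γ(Spec A, ⊤)) :
    a ∈ ((isAffineOpen_top (Spec A)).primeIdealOf ⟨y, trivial⟩).asIdeal ↔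
      (Scheme.ΓSpecIso A).hom a ∈ (y : PrimeSpectrum A).asIdeal := by
  refine not_iff_not.1 ?_
  rw [← QCoh.mem_basicOpen_iff_notMem (isAffineOpen_top (Spec A)) (x := y) trivial a, basicOpen_eq_of_affine']
  rfl

end Groth.Agent.FibLength
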